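import Mathlib
import Cfsg.Agent.Lib.H7.QuadExt

/-!
The field with `q` elements inside the field with `q ^ 2` elements.
-/
set_option autoImplicit false

namespace H7.SmallField

open H7.QuadExt

variable {F K : Type*} [Field F] [Fintype F] [Field K] [Fintype K] {q : ℕ}

/-- the fixed field of `x ↦ x ^ q` -/
def fixedField (hK : Fintype.card K = q ^ 2) : Subfield K where
  carrier := {x | x ^ q = x}
  mul_mem' := by
    intro a b ha hb
    change (a * b) ^ q = a * b
    rw [mul_pow, show a ^ q = a from ha, show b ^ q = b from hb]
  one_mem' := by change (1 : K) ^ q = 1; simp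
  add_mem' := by
    intro a b ha hb
    change (a + b) ^ q = a + b
    rw [add_pow_q hK, show a ^ q = a from ha, show b ^ q = b from hb]
  zero_mem' := zero_pow_q hK
  neg_mem' := by
    intro a ha
    change (-a) ^ q = -a
    rw [neg_pow_q hK, show a ^ q = a from ha]
  inv_mem' := by
    intro a ha
    change (a⁻¹) ^ q = a⁻¹
    rw [inv_pow, show a ^ q = a from ha]

theorem mem_fixedField (hK : Fintype.card K = q ^ 2) (x : K) : x ∈ fixedField hK ↔ x ^ q = x := Iff.rfl

/-- there is an embedding of the field with `q` elements, and its range is the fixed field -/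
theorem exists_embedding (hF : Fintype.card F = q) (hK : Fintype.card K = q ^ 2) :
    ∃ σ : F →+* K, ∀ x : K, x ^ q = x ↔ ∃ y, σ y = x := by
  classical
  letI : Fintype (fixedField hK) := Fintype.ofFinite _
  have hc : Fintype.card F = Fintype.card (fixedField hK) := by
    rw [hF, ← Nat.card_eq_fintype_card]
    exact (card_fixed hK).symm
  let e : F ≃+* fixedField hK := FiniteField.ringEquivOfCardEq hc
  refine ⟨(fixedField hK).subtype.comp e.toRingHom, fun x => ?_⟩
  constructor
  · intro hx
    obtain ⟨y, hy⟩ := e.surjective ⟨x, hx⟩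
    refine ⟨y, ?_⟩
    change ((e y : fixedField hK) : K) = x
    rw [hy]
  · rintro ⟨y, rfl⟩
    exact (e y).2

/-- an element outside the small field -/
theorem exists_not_fixed (hK : Fintype.card K = q ^ 2) : ∃ x : K, x ^ q ≠ x := by
  by_contra h
  push Not at h
  have h1 := card_fixed hK
  have h2 : Nat.card {x : K // x ^ q = x} = Nat.card K :=
    Nat.card_congr (Equiv.subtypeUnivEquiv h)
  rw [h2, Nat.card_eq_fintype_card, hK] at h1
  have := one_lt_q hK
  nlinarith

end H7.SmallField
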