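import Cfsg.Agent.Lib.H7.ExtF

set_option autoImplicit false

/-!
Overgroups of groups of semilinear maps over an extension field of prime degree: the general step, second form.
-/

namespace H7.ExtF

open Module

variable {F K V : Type*} [Field F] [Field K] [Algebra F K] [AddCommGroup V] [Module F V] [Module K V]
  [IsScalarTower F K V]

/-- what a minimal situation gives -/
theorem step_inv [FiniteDimensional F V] {M H : Subgroup (V ≃ₗ[F] V)} (hHM : H ≤ M) {v : V} (hv : v ≠ 0)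
    (S1 : ∀ X : Submodule F V, finrank F X = finrank F K →
      (∀ t ∈ H, (∀ y ∈ ln F K v, t y = y) → ∀ y ∈ X, t y ∈ X) → X ≤ ln F K v)
    {k : ℕ}
    (h0 : ∀ D ≤ ln F K v, finrank F D = k + 1 → ∀ g ∈ M, (∀ d ∈ D, g d = d) → ∀ u ∈ ln F K v, g u ∈ ln F K v)
    {D : Submodule F V} (hD : D ≤ ln F K v) (hDk : finrank F D = k) {g : V ≃ₗ[F] V} (hg : g ∈ M)
    (hgD : ∀ d ∈ D, g d = d) {u : V} (hu : u ∈ ln F K v) (hgu : g u ∉ ln F K v) :
    (ln F K v).map (g : V →ₗ[F] V) ⊓ ln F K v = D ∧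
      ∀ w ∈ (ln F K v).map (g : V →ₗ[F] V), w ∉ ln F K v → ∀ t ∈ H, (∀ y ∈ ln F K v, t y = y) → t w - w ∈ D →
        ∀ y ∈ (ln F K v).map (g : V →ₗ[F] V), t y ∈ (ln F K v).map (g : V →ₗ[F] V) := by
  have hL := finrank_ln (F := F) (K := K) hv
  obtain ⟨U, hU⟩ : ∃ U, U = (ln F K v).map (g : V →ₗ[F] V) := ⟨_, rfl⟩
  have hUr : finrank F U = finrank F K := by rw [hU, LinearEquiv.finrank_map_eq g, hL]
  have hmU : ∀ y, y ∈ U ↔ g⁻¹ y ∈ ln F K v := by
    intro y
    rw [hU]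
    constructor
    · rintro ⟨x, hx, rfl⟩
      show g⁻¹ (g x) ∈ _
      rw [inv_apply]; exact hx
    · intro h
      exact ⟨g⁻¹ y, h, apply_inv g y⟩
  have hgD' : ∀ d ∈ D, g⁻¹ d = d := fun d hd => by
    conv_lhs => rw [← hgD d hd]
    rw [inv_apply]
  have hDU : D ≤ U := fun d hd => by rw [hmU, hgD' d hd]; exact hD hd
  have huD : u ∉ D := fun h => hgu (by rw [hgD u h]; exact hu)
  obtain ⟨w, hw⟩ : ∃ w, w = g u := ⟨_, rfl⟩
  have hwU : w ∈ U := by rw [hmU, hw, inv_apply]; exact hu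
  have hwL : w ∉ ln F K v := by rw [hw]; exact hgu
  -- dimension of D + Fx
  have hdim : ∀ x, x ∉ D → finrank F (D ⊔ Submodule.span F {x} : Submodule F V) = k + 1 := by
    intro x hx
    have h1 : D ⊓ Submodule.span F {x} = ⊥ := by
      rw [Submodule.eq_bot_iff]
      rintro y ⟨hy1, hy2⟩
      obtain ⟨a, rfl⟩ := Submodule.mem_span_singleton.1 hy2
      by_cases ha : a = 0
      · rw [ha, zero_smul]
      · exact absurd ((Submodule.smul_mem_iff _ ha).1 hy1) hx
    have h2 := Submodule.finrank_sup_add_finrank_inf_eq D (Submodule.span F {x})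
    have hx0 : x ≠ 0 := fun h => hx (h ▸ D.zero_mem)
    rw [h1, finrank_bot, add_zero, finrank_span_singleton hx0, hDk] at h2
    exact h2
  have hfix : ∀ (s : V ≃ₗ[F] V) (x : V), (∀ d ∈ D, s d = d) → s x = x →
      ∀ d ∈ (D ⊔ Submodule.span F {x} : Submodule F V), s d = d := by
    intro s x h1 h2 d hd
    obtain ⟨d1, hd1, d2, hd2, rfl⟩ := Submodule.mem_sup.1 hd
    obtain ⟨a, rfl⟩ := Submodule.mem_span_singleton.1 hd2
    rw [map_add, map_smul, h1 d1 hd1, h2]
  -- the intersection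
  have hint : U ⊓ ln F K v = D := by
    apply le_antisymm _ (le_inf hDU hD)
    rintro x ⟨hxU, hxL⟩
    by_contra hxD
    have hx' := (hmU x).1 hxU
    have h1 := S1 U hUr (by
      intro t ht htl y hy
      rw [hmU] at hy ⊢
      have h2 := h0 (D ⊔ Submodule.span F {g⁻¹ x}) (sup_le hD (by
        rw [Submodule.span_singleton_le_iff_mem]; exact hx')) (hdim _ (by
          intro h3
          apply hxD
          have h4 := hgD _ h3
          rw [apply_inv] at h4
          rw [h4]; exact h3)) (g⁻¹ * t * g) (M.mul_mem (M.mul_mem (M.inv_mem hg) (hHM ht)) hg)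
          (hfix _ _ (by
            intro d hd
            show g⁻¹ (t (g d)) = d
            rw [hgD d hd, htl d (hD hd), hgD' d hd]) (by
            show g⁻¹ (t (g (g⁻¹ x))) = g⁻¹ x
            rw [apply_inv, htl x hxL])) _ hy
      have h3 : (g⁻¹ * t * g) (g⁻¹ y) = g⁻¹ (t y) := by
        show g⁻¹ (t (g (g⁻¹ y))) = _
        rw [apply_inv]
      rwa [h3] at h2)
    exact hwL (h1 hwU)
  -- the second claim
  have hinv : ∀ w ∈ U, w ∉ ln F K v → ∀ t ∈ H, (∀ y ∈ ln F K v, t y = y) → t w - w ∈ D → ∀ y ∈ U, t y ∈ U := by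
    intro w hwU hwL a ha hal haw
    obtain ⟨u, hud⟩ : ∃ u, u = g⁻¹ w := ⟨_, rfl⟩
    have hw : w = g u := by rw [hud, apply_inv]
    have hu : u ∈ ln F K v := by rw [hud]; exact (hmU w).1 hwU
    have huD : u ∉ D := fun h => hwL (by rw [hw, hgD u h]; exact hD h)
    obtain ⟨b, hb⟩ : ∃ b, b = g⁻¹ * a * g := ⟨_, rfl⟩
    have hbM : b ∈ M := by rw [hb]; exact M.mul_mem (M.mul_mem (M.inv_mem hg) (hHM ha)) hg
    have hba : ∀ y, b y = g⁻¹ (a (g y)) := fun y => by rw [hb]; rfl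
    have hbD : ∀ d ∈ D, b d = d := fun d hd => by
      rw [hba, hgD d hd, hal d (hD hd), hgD' d hd]
    have hbD' : ∀ d ∈ D, b⁻¹ d = d := fun d hd => by
      conv_lhs => rw [← hbD d hd]
      rw [inv_apply]
    obtain ⟨d0, hd0⟩ : ∃ d0, d0 = a w - w := ⟨_, rfl⟩
    have hd0D : d0 ∈ D := by rw [hd0]; exact haw
    have hbu : b u = u + d0 := by
      rw [hba, ← hw, show a w = w + d0 by rw [hd0]; abel, map_add, hw, inv_apply, hgD' d0 hd0D]
    have hbu' : b⁻¹ (u + d0) = u := by rw [← hbu, inv_apply]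
    have h1 := S1 ((ln F K v).map (b : V →ₗ[F] V)) (by rw [LinearEquiv.finrank_map_eq b, hL]) (by
      intro t ht htl y hy
      obtain ⟨x, hx, rfl⟩ := hy
      have h2 := h0 (D ⊔ Submodule.span F {u}) (sup_le hD (by
        rw [Submodule.span_singleton_le_iff_mem]; exact hu)) (hdim _ huD) (b⁻¹ * t * b)
          (M.mul_mem (M.mul_mem (M.inv_mem hbM) (hHM ht)) hbM)
          (hfix _ _ (by
            intro d hd
            show b⁻¹ (t (b d)) = d
            rw [hbD d hd, htl d (hD hd), hbD' d hd]) (by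
            show b⁻¹ (t (b u)) = u
            rw [hbu, htl _ ((ln F K v).add_mem hu (hD hd0D)), hbu'])) x hx
      refine ⟨_, h2, ?_⟩
      show b (b⁻¹ (t (b x))) = t (b x)
      rw [apply_inv])
    intro y hy
    rw [hmU] at hy ⊢
    have h2 : b (g⁻¹ y) ∈ ln F K v := h1 ⟨_, hy, rfl⟩
    rwa [hba, apply_inv] at h2
  rw [hU] at hint hinv
  exact ⟨hint, hinv⟩

end H7.ExtF
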