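import Cfsg.Agent.Lib.H7.ChevTor

/-!
The Weyl group of type F₄ as integer matrices: a dichotomy for its elements.
-/

set_option autoImplicit false
set_option maxRecDepth 100000

namespace H7.F4Weyl

/-- entry -/
def g (A : List (List ℤ)) (i j : ℕ) : ℤ := (A.getD i []).getD j 0

/-- product of 4 by 4 matrices -/
def mulL (A B : List (List ℤ)) : List (List ℤ) :=
  (List.range 4).map fun i => (List.range 4).map fun j =>
    g A i 0 * g B 0 j + g A i 1 * g B 1 j + g A i 2 * g B 2 j + g A i 3 * g B 3 j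

/-- sum of 4 by 4 matrices -/
def addL (A B : List (List ℤ)) : List (List ℤ) :=
  (List.range 4).map fun i => (List.range 4).map fun j => g A i j + g B i j

/-- identity -/
def I4 : List (List ℤ) := [[1, 0, 0, 0], [0, 1, 0, 0], [0, 0, 1, 0], [0, 0, 0, 1]]

/-- Cartan matrix -/
def A : List (List ℤ) := [[2, -1, 0, 0], [-1, 2, -2, 0], [0, -1, 2, -1], [0, 0, -1, 2]]

/-- reflections -/
def S (k : ℕ) : List (List ℤ) :=
  (List.range 4).map fun i => (List.range 4).map fun j => (if i = j then 1 else 0) - (if j = k then g A i k else 0)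

/-- words -/
def W (L : List ℕ) : List (List ℤ) := L.foldr (fun i X => mulL (S i) X) I4

/-- coset representatives, level 0 -/
def R0 : List (List (List ℤ)) := [
  [[1, 0, 0, 0], [0, 1, 0, 0], [0, 0, 1, 0], [0, 0, 0, 1]],
  [[-1, 0, 0, 0], [1, 1, 0, 0], [0, 0, 1, 0], [0, 0, 0, 1]]]

/-- coset representatives, level 1 -/
def R1 : List (List (List ℤ)) := [
  [[1, 0, 0, 0], [0, 1, 0, 0], [0, 0, 1, 0], [0, 0, 0, 1]],
  [[1, 1, 0, 0], [0, -1, 0, 0], [0, 1, 1, 0], [0, 0, 0, 1]],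
  [[-1, -1, 0, 0], [1, 0, 0, 0], [0, 1, 1, 0], [0, 0, 0, 1]]]

/-- coset representatives, level 2 -/
def R2 : List (List (List ℤ)) := [
  [[1, 0, 0, 0], [0, 1, 0, 0], [0, 0, 1, 0], [0, 0, 0, 1]],
  [[1, 0, 0, 0], [0, 1, 2, 0], [0, 0, -1, 0], [0, 0, 1, 1]],
  [[1, 1, 2, 0], [0, -1, -2, 0], [0, 1, 1, 0], [0, 0, 1, 1]],
  [[-1, -1, -2, 0], [1, 0, 0, 0], [0, 1, 1, 0], [0, 0, 1, 1]],
  [[1, 1, 2, 0], [0, 1, 0, 0], [0, -1, -1, 0], [0, 1, 2, 1]],
  [[-1, -1, -2, 0], [1, 2, 2, 0], [0, -1, -1, 0], [0, 1, 2, 1]],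
  [[0, 1, 0, 0], [-1, -2, -2, 0], [1, 1, 1, 0], [0, 1, 2, 1]],
  [[0, 1, 0, 0], [1, 0, 0, 0], [-1, -1, -1, 0], [1, 2, 3, 1]]]

/-- coset representatives, level 3 -/
def R3 : List (List (List ℤ)) := [
  [[1, 0, 0, 0], [0, 1, 0, 0], [0, 0, 1, 0], [0, 0, 0, 1]],
  [[1, 0, 0, 0], [0, 1, 0, 0], [0, 0, 1, 1], [0, 0, 0, -1]],
  [[1, 0, 0, 0], [0, 1, 2, 2], [0, 0, -1, -1], [0, 0, 1, 0]],
  [[1, 1, 2, 2], [0, -1, -2, -2], [0, 1, 1, 1], [0, 0, 1, 0]],
  [[-1, -1, -2, -2], [1, 0, 0, 0], [0, 1, 1, 1], [0, 0, 1, 0]],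
  [[1, 1, 2, 2], [0, 1, 0, 0], [0, -1, -1, -1], [0, 1, 2, 1]],
  [[-1, -1, -2, -2], [1, 2, 2, 2], [0, -1, -1, -1], [0, 1, 2, 1]],
  [[1, 1, 2, 2], [0, 1, 0, 0], [0, 0, 1, 0], [0, -1, -2, -1]],
  [[0, 1, 0, 0], [-1, -2, -2, -2], [1, 1, 1, 1], [0, 1, 2, 1]],
  [[-1, -1, -2, -2], [1, 2, 2, 2], [0, 0, 1, 0], [0, -1, -2, -1]],
  [[0, 1, 0, 0], [1, 0, 0, 0], [-1, -1, -1, -1], [1, 2, 3, 2]],
  [[0, 1, 0, 0], [-1, -2, -2, -2], [1, 2, 3, 2], [0, -1, -2, -1]],
  [[0, 1, 0, 0], [1, 0, 0, 0], [0, 1, 2, 1], [-1, -2, -3, -2]],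
  [[0, 1, 0, 0], [1, 2, 4, 2], [-1, -2, -3, -2], [1, 1, 1, 1]],
  [[0, 1, 0, 0], [1, 2, 4, 2], [0, -1, -2, -1], [-1, -1, -1, -1]],
  [[1, 3, 4, 2], [-1, -2, -4, -2], [0, 0, 1, 0], [1, 1, 1, 1]],
  [[1, 3, 4, 2], [-1, -2, -4, -2], [1, 1, 2, 1], [-1, -1, -1, -1]],
  [[-1, -3, -4, -2], [0, 1, 0, 0], [0, 0, 1, 0], [1, 1, 1, 1]],
  [[-1, -3, -4, -2], [0, 1, 0, 0], [1, 1, 2, 1], [-1, -1, -1, -1]],
  [[1, 3, 4, 2], [1, 0, 0, 0], [-1, -1, -2, -1], [0, 0, 1, 0]],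
  [[-1, -3, -4, -2], [2, 3, 4, 2], [-1, -1, -2, -1], [0, 0, 1, 0]],
  [[1, 0, 0, 0], [-2, -3, -4, -2], [1, 2, 2, 1], [0, 0, 1, 0]],
  [[1, 0, 0, 0], [0, 1, 0, 0], [-1, -2, -2, -1], [1, 2, 3, 1]],
  [[1, 0, 0, 0], [0, 1, 0, 0], [0, 0, 1, 0], [-1, -2, -3, -1]]]


/-- the dichotomy -/
def predB (M : List (List ℤ)) : Bool :=
  let M2 := mulL M M
  let M4 := mulL M2 M2
  let M6 := mulL M4 M2
  let M8 := mulL M4 M4
  (M8 == I4) || (M6 == I4) || ((addL M4 I4) == M2 && mulL M6 M6 == I4)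

/-- check a list of top representatives -/
def chk (l : List (List (List ℤ))) : Bool :=
  l.all fun a => R2.all fun b => R1.all fun c => R0.all fun d => predB (mulL (mulL (mulL a b) c) d)

theorem chk_0 : chk ((R3.drop 0).take 3) = true := by decide +kernel
theorem chk_1 : chk ((R3.drop 3).take 3) = true := by decide +kernel
theorem chk_2 : chk ((R3.drop 6).take 3) = true := by decide +kernel
theorem chk_3 : chk ((R3.drop 9).take 3) = true := by decide +kernel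
theorem chk_4 : chk ((R3.drop 12).take 3) = true := by decide +kernel
theorem chk_5 : chk ((R3.drop 15).take 3) = true := by decide +kernel
theorem chk_6 : chk ((R3.drop 18).take 3) = true := by decide +kernel
theorem chk_7 : chk ((R3.drop 21).take 3) = true := by decide +kernel

theorem chk_all : chk R3 = true := by
  have h : R3 = (R3.drop 0).take 3 ++ (R3.drop 3).take 3 ++ (R3.drop 6).take 3 ++ (R3.drop 9).take 3 ++
      (R3.drop 12).take 3 ++ (R3.drop 15).take 3 ++ (R3.drop 18).take 3 ++ (R3.drop 21).take 3 := by decide +kernel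
  rw [h]
  unfold chk
  simp only [List.all_append]
  have h0 := chk_0; have h1 := chk_1; have h2 := chk_2; have h3 := chk_3
  have h4 := chk_4; have h5 := chk_5; have h6 := chk_6; have h7 := chk_7
  unfold chk at h0 h1 h2 h3 h4 h5 h6 h7
  rw [h0, h1, h2, h3, h4, h5, h6, h7]
  rfl

/-- as a matrix -/
def toM (A : List (List ℤ)) : Matrix (Fin 4) (Fin 4) ℤ := Matrix.of fun i j => g A i j

theorem toM_mul (A B : List (List ℤ)) : toM (mulL A B) = toM A * toM B := by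
  ext i j
  rw [Matrix.mul_apply, Fin.sum_univ_four]
  fin_cases i <;> fin_cases j <;> simp [toM, mulL, g, List.getD]

theorem toM_add (A B : List (List ℤ)) : toM (addL A B) = toM A + toM B := by
  ext i j
  rw [Matrix.add_apply]
  fin_cases i <;> fin_cases j <;> simp [toM, addL, g, List.getD]

theorem toM_one : toM I4 = 1 := by
  ext i j
  fin_cases i <;> fin_cases j <;> simp [toM, I4, g, List.getD]

theorem W_cons (i : ℕ) (L : List ℕ) : W (i :: L) = mulL (S i) (W L) := rfl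

theorem step (k : ℕ) (Rk : List (List (List ℤ))) (hI : I4 ∈ Rk)
    (h : ∀ i ≤ k, ∀ r ∈ Rk, (∃ r' ∈ Rk, mulL (S i) r = r') ∨ ∃ j < k, mulL (S i) r = mulL r (S j))
    (L : List ℕ) (hL : ∀ i ∈ L, i ≤ k) :
    ∃ r ∈ Rk, ∃ L' : List ℕ, (∀ i ∈ L', i < k) ∧ toM (W L) = toM r * toM (W L') := by
  induction L with
  | nil => exact ⟨I4, hI, [], by simp, by rw [toM_one, one_mul]⟩
  | cons i L ih =>
    obtain ⟨r, hr, L', hL', e⟩ := ih (fun j hj => hL j (List.mem_cons_of_mem _ hj))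
    rcases h i (hL i (List.mem_cons_self ..)) r hr with ⟨r', hr', e'⟩ | ⟨j, hj, e'⟩
    · refine ⟨r', hr', L', hL', ?_⟩
      rw [W_cons, toM_mul, e, ← mul_assoc, ← toM_mul, e']
    · refine ⟨r, hr, j :: L', ?_, ?_⟩
      · intro i hi
        rcases List.mem_cons.1 hi with rfl | hi
        · exact hj
        · exact hL' i hi
      · rw [W_cons, toM_mul, e, ← mul_assoc, ← toM_mul, e', toM_mul, W_cons, toM_mul, mul_assoc]

theorem st0 : ∀ i ≤ 0, ∀ r ∈ R0, (∃ r' ∈ R0, mulL (S i) r = r') ∨ ∃ j < 0, mulL (S i) r = mulL r (S j) := by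
  decide +kernel

theorem st1 : ∀ i ≤ 1, ∀ r ∈ R1, (∃ r' ∈ R1, mulL (S i) r = r') ∨ ∃ j < 1, mulL (S i) r = mulL r (S j) := by
  decide +kernel

theorem st2 : ∀ i ≤ 2, ∀ r ∈ R2, (∃ r' ∈ R2, mulL (S i) r = r') ∨ ∃ j < 2, mulL (S i) r = mulL r (S j) := by
  decide +kernel

theorem st3 : ∀ i ≤ 3, ∀ r ∈ R3, (∃ r' ∈ R3, mulL (S i) r = r') ∨ ∃ j < 3, mulL (S i) r = mulL r (S j) := by
  decide +kernel

theorem dich (L : List ℕ) (hL : ∀ i ∈ L, i < 4) :
    toM (W L) ^ 8 = 1 ∨ toM (W L) ^ 6 = 1 ∨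
      (toM (W L) ^ 4 + 1 = toM (W L) ^ 2 ∧ toM (W L) ^ 12 = 1) := by
  obtain ⟨a, ha, L3, hL3, e3⟩ := step 3 R3 (by decide +kernel) st3 L (fun i hi => Nat.le_of_lt_succ (hL i hi))
  obtain ⟨b, hb, L2, hL2, e2⟩ := step 2 R2 (by decide +kernel) st2 L3 (fun i hi => Nat.le_of_lt_succ (hL3 i hi))
  obtain ⟨c, hc, L1, hL1, e1⟩ := step 1 R1 (by decide +kernel) st1 L2 (fun i hi => Nat.le_of_lt_succ (hL2 i hi))
  obtain ⟨d, hd, L0, hL0, e0⟩ := step 0 R0 (by decide +kernel) st0 L1 (fun i hi => Nat.le_of_lt_succ (hL1 i hi))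
  have hnil : L0 = [] := by
    cases L0 with
    | nil => rfl
    | cons i L => exact absurd (hL0 i (List.mem_cons_self ..)) (by omega)
  have hW : W ([] : List ℕ) = I4 := rfl
  rw [hnil, hW, toM_one, mul_one] at e0
  have e : toM (W L) = toM (mulL (mulL (mulL a b) c) d) := by
    rw [e3, e2, e1, e0, toM_mul, toM_mul, toM_mul]; simp only [mul_assoc]
  have h1 := chk_all
  unfold chk at h1
  rw [List.all_eq_true] at h1
  have h2 := h1 a ha
  rw [List.all_eq_true] at h2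
  have h3 := h2 b hb
  rw [List.all_eq_true] at h3
  have h4 := h3 c hc
  rw [List.all_eq_true] at h4
  have h5 := h4 d hd
  rw [e]
  generalize mulL (mulL (mulL a b) c) d = M at h5
  unfold predB at h5
  simp only [Bool.or_eq_true, Bool.and_eq_true, beq_iff_eq] at h5
  rcases h5 with (h | h) | ⟨h, h'⟩
  · left
    have := congrArg toM h
    rw [toM_one, toM_mul, toM_mul, toM_mul] at this
    rw [← this]; simp only [pow_succ, pow_zero, one_mul, mul_assoc]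
  · right; left
    have := congrArg toM h
    rw [toM_one, toM_mul, toM_mul, toM_mul] at this
    rw [← this]; simp only [pow_succ, pow_zero, one_mul, mul_assoc]
  · right; right
    constructor
    · have := congrArg toM h
      rw [toM_add, toM_one, toM_mul, toM_mul] at this
      rw [show toM M ^ 4 = toM M * toM M * (toM M * toM M) by simp only [pow_succ, pow_zero, one_mul, mul_assoc],
        this, pow_two]
    · have := congrArg toM h'
      rw [toM_one, toM_mul, toM_mul, toM_mul, toM_mul] at this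
      rw [← this]; simp only [pow_succ, pow_zero, one_mul, mul_assoc]

end H7.F4Weyl
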