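import Mathlib
import Cfsg.Agent.Lib.H7.OmegaOrd
import Cfsg.Agent.Lib.H6.SLGen

/-!
General lemma for the exceptional isomorphisms of small orthogonal groups, and dimension three.
-/
set_option autoImplicit false

namespace H7.LowRank

open H7.Hyp H7.HypStd H7.HypOrd H7.Omega H7.OmegaIso H7.OmegaOrd QuadraticMap
open H48.QuadStd
open scoped commutatorElement

/-- a linear representation as a homomorphism to the group of linear automorphisms -/
noncomputable def mkHom {F G W : Type*} [Field F] [Group G] [AddCommGroup W] [Module F W] (r : G →* (W →ₗ[F] W)) :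
    G →* (W ≃ₗ[F] W) := (LinearMap.GeneralLinearGroup.generalLinearEquiv F W).toMonoidHom.comp r.toHomUnits

theorem mkHom_apply {F G W : Type*} [Field F] [Group G] [AddCommGroup W] [Module F W] (r : G →* (W →ₗ[F] W)) (g : G) (w : W) :
    mkHom r g w = r g w := rfl

variable {F : Type*} [Field F] {V : Type*} [AddCommGroup V] [Module F V] {Q : QuadraticForm F V}
  {ι : Type} [Fintype ι] [DecidableEq ι] {Q₀ : (ι → F) → F}

theorem quot_iso {G H : Type*} [Group G] [Group H] (f : G →* H) (hf : Function.Surjective f)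
    (h : ∀ g, f g ∈ Subgroup.center H → g ∈ Subgroup.center G) : Nonempty (H ⧸ Subgroup.center H ≃* G ⧸ Subgroup.center G) := by
  let φ : G →* H ⧸ Subgroup.center H := (QuotientGroup.mk' _).comp f
  have hφ : Function.Surjective φ := (QuotientGroup.mk'_surjective _).comp hf
  have hk : φ.ker = Subgroup.center G := by
    ext g
    rw [MonoidHom.mem_ker]
    change (QuotientGroup.mk (f g) : H ⧸ Subgroup.center H) = 1 ↔ _
    rw [QuotientGroup.eq_one_iff]
    refine ⟨h g, fun hg => ?_⟩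
    rw [Subgroup.mem_center_iff] at hg ⊢
    intro x
    obtain ⟨x, rfl⟩ := hf x
    rw [← map_mul, ← map_mul, hg x]
  exact ⟨(QuotientGroup.quotientKerEquivOfSurjective φ hφ).symm.trans (QuotientGroup.quotientMulEquivOfEq hk)⟩

theorem iso_Om {G : Type*} [Group G] [Nontrivial V] (hQ : ND Q)
    (ρ : G →* ((F × F × V) ≃ₗ[F] (F × F × V))) (hr : ρ.range = Om Q)
    (hz : ∀ g, ∀ x : F, x * x = 1 → (∀ p, ρ g p = x • p) → g ∈ Subgroup.center G) :
    Nonempty (Om Q ⧸ Subgroup.center (Om Q) ≃* G ⧸ Subgroup.center G) := by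
  have hmem : ∀ g, ρ g ∈ Om Q := fun g => by rw [← hr]; exact ⟨g, rfl⟩
  refine quot_iso (ρ.codRestrict (Om Q) hmem) ?_ ?_
  · rintro ⟨x, hx⟩
    rw [← hr] at hx
    obtain ⟨g, hg⟩ := hx
    exact ⟨g, Subtype.ext hg⟩
  · intro g hg
    obtain ⟨x, hx, h⟩ := (mem_center_iff hQ _).1 hg
    exact hz g x hx h

theorem iso_POmega {G : Type*} [Group G] [Nontrivial V] (hQ : ND Q) (e : Cfsg.isometryGroup F Q₀ ≃* O (hyp Q))
    (hc : ⁅O (hyp Q), O (hyp Q)⁆ = Om Q)
    (ρ : G →* ((F × F × V) ≃ₗ[F] (F × F × V))) (hr : ρ.range = Om Q)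
    (hz : ∀ g, ∀ x : F, x * x = 1 → (∀ p, ρ g p = x • p) → g ∈ Subgroup.center G) :
    Nonempty (Cfsg.POmega F Q₀ ≃* G ⧸ Subgroup.center G) := by
  obtain ⟨i⟩ := iso_Om hQ ρ hr hz
  exact ⟨(quotCenterCongr (omegaEquiv e hc)).trans i⟩

/-- special linear groups over isomorphic fields -/
noncomputable def slMapEquiv (κ : Type*) [Fintype κ] [DecidableEq κ] {R S : Type*} [CommRing R] [CommRing S] (r : R ≃+* S) :
    Matrix.SpecialLinearGroup κ R ≃* Matrix.SpecialLinearGroup κ S :=
  MulEquiv.ofBijective (Matrix.SpecialLinearGroup.map (n := κ) r.toRingHom) (by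
    constructor
    · intro A B h
      apply Subtype.ext
      ext i j
      have h1 := congrFun (congrFun (congrArg Subtype.val h) i) j
      exact r.injective h1
    · intro B
      refine ⟨Matrix.SpecialLinearGroup.map (n := κ) r.symm.toRingHom B, ?_⟩
      apply Subtype.ext
      ext i j
      exact r.apply_symm_apply _)

/-- reindexing special linear groups -/
def slReindex {κ κ' : Type*} [Fintype κ] [DecidableEq κ] [Fintype κ'] [DecidableEq κ'] {R : Type*} [CommRing R] (e : κ ≃ κ') :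
    Matrix.SpecialLinearGroup κ R ≃* Matrix.SpecialLinearGroup κ' R where
  toFun A := ⟨Matrix.reindex e e A.1, by rw [Matrix.det_reindex_self]; exact A.2⟩
  invFun A := ⟨Matrix.reindex e.symm e.symm A.1, by rw [Matrix.det_reindex_self]; exact A.2⟩
  left_inv A := by
    apply Subtype.ext
    ext i j
    simp
  right_inv A := by
    apply Subtype.ext
    ext i j
    simp
  map_mul' A B := by
    apply Subtype.ext
    change Matrix.reindex e e (A.1 * B.1) = Matrix.reindex e e A.1 * Matrix.reindex e e B.1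
    rw [Matrix.reindex_apply, Matrix.reindex_apply, Matrix.reindex_apply, Matrix.submatrix_mul_equiv]

/-! ### dimension three -/

/-- `x ↦ x ^ 2` -/
def qsq (F : Type*) [Field F] : QuadraticForm F F := QuadraticMap.sq

theorem qsq_apply (x : F) : qsq F x = x * x := rfl

theorem polar_qsq (x y : F) : polar (qsq F) x y = 2 * x * y := by
  simp only [QuadraticMap.polar, qsq_apply]; ring

theorem nd_qsq (h2 : (2 : F) ≠ 0) : ND (qsq F) := by
  intro v hv
  have := hv 1
  rw [polar_qsq, mul_one] at this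
  exact (mul_eq_zero.1 this).resolve_left h2

open Matrix

/-- the action of 2 × 2 matrices on trace zero matrices -/
def ad (g : Matrix (Fin 2) (Fin 2) F) : (F × F × F) →ₗ[F] (F × F × F) where
  toFun p := (g 0 0 ^ 2 * p.1 - g 0 1 ^ 2 * p.2.1 - 2 * g 0 0 * g 0 1 * p.2.2,
    -g 1 0 ^ 2 * p.1 + g 1 1 ^ 2 * p.2.1 + 2 * g 1 0 * g 1 1 * p.2.2,
    -(g 0 0 * g 1 0) * p.1 + g 0 1 * g 1 1 * p.2.1 + (g 0 0 * g 1 1 + g 0 1 * g 1 0) * p.2.2)
  map_add' p q := by
    refine Prod.ext ?_ (Prod.ext ?_ ?_) <;> simp only [Prod.fst_add, Prod.snd_add] <;> ring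
  map_smul' c p := by
    refine Prod.ext ?_ (Prod.ext ?_ ?_) <;> simp only [Prod.smul_fst, Prod.smul_snd, smul_eq_mul, RingHom.id_apply] <;> ring

theorem ad_apply (g : Matrix (Fin 2) (Fin 2) F) (x y v : F) : ad g (x, y, v) =
    (g 0 0 ^ 2 * x - g 0 1 ^ 2 * y - 2 * g 0 0 * g 0 1 * v,
    -g 1 0 ^ 2 * x + g 1 1 ^ 2 * y + 2 * g 1 0 * g 1 1 * v,
    -(g 0 0 * g 1 0) * x + g 0 1 * g 1 1 * y + (g 0 0 * g 1 1 + g 0 1 * g 1 0) * v) := rfl

theorem ad_mul (g h : Matrix (Fin 2) (Fin 2) F) : ad (g * h) = ad g * ad h := by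
  apply LinearMap.ext
  rintro ⟨x, y, v⟩
  rw [Module.End.mul_apply]
  simp only [ad_apply, Matrix.mul_apply, Fin.sum_univ_two]
  refine Prod.ext ?_ (Prod.ext ?_ ?_) <;> simp only <;> ring

theorem ad_one : ad (1 : Matrix (Fin 2) (Fin 2) F) = 1 := by
  apply LinearMap.ext
  rintro ⟨x, y, v⟩
  simp [ad_apply]

/-- `SL_2` acting on `F ^ 3` -/
noncomputable def rho3 (F : Type*) [Field F] : SpecialLinearGroup (Fin 2) F →* ((F × F × F) ≃ₗ[F] (F × F × F)) :=
  mkHom
    { toFun := fun g => ad (g : Matrix (Fin 2) (Fin 2) F)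
      map_one' := ad_one
      map_mul' := fun _ _ => ad_mul _ _ }

theorem rho3_apply (g : SpecialLinearGroup (Fin 2) F) (p : F × F × F) : rho3 F g p = ad (g : Matrix (Fin 2) (Fin 2) F) p := rfl

theorem rho3_upper (c : F) : rho3 F (SpecialLinearGroup.transvection (i := (0 : Fin 2)) (j := 1) (by decide) c) = E (qsq F) c := by
  apply LinearEquiv.ext
  rintro ⟨x, y, v⟩
  rw [rho3_apply, ad_apply, E_apply, qsq_apply, polar_qsq]
  refine Prod.ext ?_ (Prod.ext ?_ ?_) <;> simp [SpecialLinearGroup.transvection, Matrix.transvection] <;> ring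

theorem rho3_lower (c : F) : rho3 F (SpecialLinearGroup.transvection (i := (1 : Fin 2)) (j := 0) (by decide) c) = E' (qsq F) (-c) := by
  apply LinearEquiv.ext
  rintro ⟨x, y, v⟩
  rw [rho3_apply, ad_apply, E'_apply, qsq_apply, polar_qsq]
  refine Prod.ext ?_ (Prod.ext ?_ ?_) <;> simp [SpecialLinearGroup.transvection, Matrix.transvection] <;> ring

theorem rho3_range : (rho3 F).range = Om (qsq F) := by
  apply le_antisymm
  · rw [MonoidHom.range_eq_map, Subgroup.map_le_iff_le_comap, top_le_iff]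
    apply H6.SLGen.eq_top_of_transvection_mem
    intro i j hij c
    rw [Subgroup.mem_comap]
    fin_cases i <;> fin_cases j
    · exact absurd rfl hij
    · exact (rho3_upper c) ▸ E_mem_Om _ _
    · exact (rho3_lower c) ▸ E'_mem_Om _ _
    · exact absurd rfl hij
  · refine Om_le_of (fun w => ⟨_, rho3_upper w⟩) (fun w => ⟨_, (rho3_lower (-w)).trans (by rw [neg_neg])⟩)

theorem rho3_center {g : SpecialLinearGroup (Fin 2) F} {x : F} (h : ∀ p, rho3 F g p = x • p) :
    g ∈ Subgroup.center (SpecialLinearGroup (Fin 2) F) := by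
  have hdet : g.1 0 0 * g.1 1 1 - g.1 0 1 * g.1 1 0 = 1 := by
    rw [← Matrix.det_fin_two]; exact g.2
  have h1 := h (1, 0, 0)
  have h2 := h (0, 1, 0)
  have h3 := h (0, 0, 1)
  rw [rho3_apply, ad_apply] at h1 h2 h3
  simp only [mul_one, mul_zero, sub_zero, add_zero, zero_add, Prod.smul_mk, smul_eq_mul, Prod.mk.injEq, neg_eq_zero,
    zero_sub] at h1 h2 h3
  have hc : g.1 1 0 = 0 := by
    have := h1.2.1
    exact pow_eq_zero_iff (two_ne_zero) |>.1 this
  have hb : g.1 0 1 = 0 := by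
    have := h2.1
    exact pow_eq_zero_iff (two_ne_zero) |>.1 this
  have hx : x = 1 := by
    have h4 := h3.2.2
    have e1 : g.1 0 0 * g.1 1 1 = 1 := by rw [hb] at hdet; linear_combination hdet
    change g.1 0 0 * g.1 1 1 + g.1 0 1 * g.1 1 0 = x at h4
    rw [e1, hb] at h4
    linear_combination -h4
  have ha : g.1 0 0 ^ 2 = 1 := by
    have := h1.1
    rw [hx] at this; exact this
  have had : g.1 0 0 = g.1 1 1 := by
    have e1 : g.1 0 0 * g.1 1 1 = 1 := by rw [hb] at hdet; linear_combination hdet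
    have h0 : g.1 0 0 ≠ 0 := left_ne_zero_of_mul_eq_one e1
    apply mul_left_cancel₀ h0
    rw [e1, ← _root_.sq]; exact ha
  rw [Matrix.SpecialLinearGroup.mem_center_iff]
  refine ⟨g.1 0 0, by simpa using ha, ?_⟩
  ext i j
  fin_cases i <;> fin_cases j
  · simp
  · simpa using hb.symm
  · simpa using hc.symm
  · simpa using had

end H7.LowRank
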