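import Cfsg.Agent.Lib.H94.UnitOver

/-!
Overgroups in SL of the similarity group of a non-degenerate unitary form over a finite field, dimension at least five
(adapted from `H94.UnitOver`).
-/

set_option autoImplicit false
set_option linter.unusedSectionVars false

namespace H7.UnitFive

open Matrix Cfsg.Geo H94.Transv H94.FormRow H94.UnitForm H94.UnitOver
open scoped MatrixGroups

variable {ι : Type} [Fintype ι] [DecidableEq ι] {F : Type*} [Field F] [Finite F]

variable {σ : F ≃+* F} {f : (ι → F) → (ι → F) → F} {M : Subgroup (GL ι F)}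

theorem full_of5 (hf : IsUnitaryForm σ f) (hM : HasU M σ f) (hn : 5 ≤ Fintype.card ι) {w ψ y1 : ι → F}
    (hψ : HasT M w ψ) (hy1 : f y1 w = 0) (hψy : ψ ⬝ᵥ y1 ≠ 0) : Full M w := by
  have hdimN : Fintype.card ι ≤ Module.finrank F (perp hf w) + 1 := by
    have := finrank_inf_perp hf ⊤ w
    rw [top_inf_eq, finrank_top, Module.finrank_fintype_fun_eq_card] at this
    exact this
  obtain ⟨e, heN, hee, hrad⟩ := exists_iso hf (X := perp hf w) (by omega)
  obtain ⟨α, hα0, hα⟩ := exists_alpha hf
  -- an isotropic z0 with ψ z0 ≠ 0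
  obtain ⟨z0, hz0N, hz0, hψz⟩ : ∃ z0 ∈ perp hf w, f z0 z0 = 0 ∧ ψ ⬝ᵥ z0 ≠ 0 := by
    by_contra hcon
    push Not at hcon
    let S : Submodule F (ι → F) :=
      { carrier := {v | ψ ⬝ᵥ v = 0}
        add_mem' := fun {a b} ha hb => by
          have ha' : ψ ⬝ᵥ a = 0 := ha
          have hb' : ψ ⬝ᵥ b = 0 := hb
          show ψ ⬝ᵥ (a + b) = 0
          rw [dotProduct_add, ha', hb', add_zero]
        zero_mem' := dotProduct_zero _
        smul_mem' := fun c a ha => by
          have ha' : ψ ⬝ᵥ a = 0 := ha
          show ψ ⬝ᵥ (c • a) = 0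
          rw [dotProduct_smul, ha', smul_zero] }
    have hle := le_of_isotropic hf (X := perp hf w) (S := S) heN hee hrad (hcon e heN hee)
      (fun y hy hyy _ => hcon y hy hyy)
    exact hψy (hle hy1)
  have hz0w : f z0 w = 0 := hz0N
  obtain ⟨x, hxN, hxz⟩ : ∃ x ∈ perp hf w, f x z0 ≠ 0 := by
    by_contra hcon
    push Not at hcon
    have h1 : frow f z0 ∈ Submodule.span F {frow f w} := by
      apply mem_span_of_ker_le
      intro x hx
      rw [(linLeft hf).frow_dot] at hx ⊢
      exact hcon x hx
    obtain ⟨c, hc⟩ := Submodule.mem_span_singleton.1 h1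
    have h2 : z0 - σ c • w = 0 := by
      apply nd hf
      intro x
      rw [← (linLeft hf).frow_dot, frow_sub hf, frow_smul hf, hf.involutive, hc, sub_self, zero_dotProduct]
    apply hψz
    rw [sub_eq_zero.1 h2, dotProduct_smul, hψ.1, smul_zero]
  have hb0 : (ψ ⬝ᵥ z0) * α ≠ 0 := mul_ne_zero hψz hα0
  have hTz := star hf hM hψ hz0w hz0 hα
  -- t exists for all hyperbolic pairs y, z in N
  have ht : ∀ y z : ι → F, f y y = 0 → f y z ≠ 0 → ∃ t, f t w = 0 ∧ f t y = 0 ∧ f t z = 0 ∧ f t t ≠ 0 := by
    intro y z hyy hyz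
    have h1 := finrank_inf_perp hf (perp hf w) y
    have h2 := finrank_inf_perp hf (perp hf w ⊓ perp hf y) z
    by_contra hcon
    push Not at hcon
    obtain ⟨X, hX⟩ : ∃ X, X = perp hf w ⊓ perp hf y ⊓ perp hf z := ⟨_, rfl⟩
    have hti := ti_of_isotropic hf (X := X) (by
      intro t ht
      rw [hX] at ht
      exact hcon t ht.1.1 ht.1.2 ht.2)
    have hy0 : y ≠ 0 := by
      rintro rfl
      exact hyz ((linLeft hf).zero_left z)
    have hXy : ∀ x ∈ X, f x y = 0 := by
      intro x hx
      rw [hX] at hx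
      exact hx.1.2
    have hti2 : ∀ x ∈ X ⊔ Submodule.span F {y}, ∀ x' ∈ X ⊔ Submodule.span F {y}, f x x' = 0 := by
      intro x hx x' hx'
      obtain ⟨a, ha, b, hb, rfl⟩ := Submodule.mem_sup.1 hx
      obtain ⟨a', ha', b', hb', rfl⟩ := Submodule.mem_sup.1 hx'
      obtain ⟨c, rfl⟩ := Submodule.mem_span_singleton.1 hb
      obtain ⟨c', rfl⟩ := Submodule.mem_span_singleton.1 hb'
      rw [hf.add_left, add_right hf, add_right hf, hf.smul_left, hf.smul_left, smul_right hf, smul_right hf,
        hti a ha a' ha', hXy a ha, eq_zero_symm hf (hXy a' ha'), hyy]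
      ring
    have hb := ti_bound hf hti2
    have hyX : y ∉ X := by
      intro h
      rw [hX] at h
      exact hyz h.2
    have hlt : X < X ⊔ Submodule.span F {y} := by
      rw [SetLike.lt_iff_le_and_exists]
      exact ⟨le_sup_left, y, Submodule.mem_sup_right (Submodule.mem_span_singleton_self y), hyX⟩
    have h3 := Submodule.finrank_lt_finrank_of_lt hlt
    rw [← hX] at h2
    omega
  -- y0 with f y0 z0 = 1
  obtain ⟨c0, hc01, hc02⟩ := exists_shift hf hz0 hxz
  set y0 := (f x z0)⁻¹ • (x + c0 • z0) with hy0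
  have hy0N : f y0 w = 0 := (perp hf w).smul_mem _ ((perp hf w).add_mem hxN ((perp hf w).smul_mem _ hz0N))
  have hy0y0 : f y0 y0 = 0 := by rw [hy0, hf.smul_left, smul_right hf, hc01]; ring
  have hy0z0 : f y0 z0 = 1 := by rw [hy0, hf.smul_left, hc02, inv_mul_cancel₀ hxz]
  have hz0y0 : f z0 y0 = 1 := by rw [hf.herm, hy0z0, map_one]
  obtain ⟨t, ht1, ht2, ht3, ht4⟩ := ht y0 z0 hy0y0 (by rw [hy0z0]; exact one_ne_zero)
  have hall0 : ∀ c, HasT M w (c • frow f y0) :=
    core hf hM hb0 hTz hy0N hz0w ht1 hy0y0 hz0 hy0z0 ht2 ht3 ht4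
  have hallz : ∀ c, HasT M w (c • frow f z0) :=
    core hf hM one_ne_zero (hall0 1) hz0w hy0N ht1 hz0 hy0y0 hz0y0 ht3 ht2 ht4
  have hle : perp hf w ≤ Sset hf M w := by
    refine le_of_isotropic hf (e := z0) hz0N hz0 ⟨x, hxN, hxz⟩ hallz ?_
    intro y hyN hyy hyz
    set y' := (f y z0)⁻¹ • y with hy'
    have hy'N : f y' w = 0 := (perp hf w).smul_mem _ hyN
    have hy'y' : f y' y' = 0 := by rw [hy', hf.smul_left, smul_right hf, hyy]; ring
    have hy'z : f y' z0 = 1 := by rw [hy', hf.smul_left, inv_mul_cancel₀ hyz]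
    obtain ⟨t, ht1, ht2, ht3, ht4⟩ := ht y' z0 hy'y' (by rw [hy'z]; exact one_ne_zero)
    have h1 : y' ∈ Sset hf M w :=
      core hf hM one_ne_zero (hallz 1) hy'N hz0w ht1 hy'y' hz0 hy'z ht2 ht3 ht4
    have h2 := (Sset hf M w).smul_mem (f y z0) h1
    rwa [hy', smul_smul, mul_inv_cancel₀ hyz, one_smul] at h2
  intro φ hφ
  obtain ⟨y, rfl⟩ := exists_frow hf φ
  rw [(linLeft hf).frow_dot] at hφ
  have := hle (show y ∈ perp hf w from eq_zero_symm hf hφ) 1
  rwa [one_smul] at this

theorem specialLinear_le5 (hf : IsUnitaryForm σ f) (hM : HasU M σ f) (hn : 5 ≤ Fintype.card ι)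
    {g : GL ι F} (hg : g ∈ M) (hgs : g ∉ similarityGroup f) : specialLinear ι F ≤ M := by
  obtain ⟨α, hα0, hα⟩ := exists_alpha hf
  set f' := pull g f with hf'def
  have hf' : IsUnitaryForm σ f' := pull_unitary hf g
  have hM' : ∀ w, f' w w = 0 → HasT M w (α • frow f' w) := by
    intro w hw
    have h1 := (hM (((g⁻¹ : GL ι F) : Matrix ι ι F) *ᵥ w) α hw hα).conj hg
    rw [mulVec_inv_mulVec] at h1
    convert h1 using 1
    apply frow_ext
    intro x
    rw [smul_dotProduct, (linLeft hf').frow_dot, ← dotProduct_mulVec, smul_dotProduct, (linLeft hf).frow_dot]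
    rfl
  by_cases hex : ∃ w, f' w w = 0 ∧ frow f' w ∉ Submodule.span F {frow f w}
  · obtain ⟨w, hw, hnot⟩ := hex
    obtain ⟨y1, hy1, hy1'⟩ : ∃ y1, f y1 w = 0 ∧ (α • frow f' w) ⬝ᵥ y1 ≠ 0 := by
      by_contra hcon
      push Not at hcon
      apply hnot
      apply mem_span_of_ker_le
      intro x hx
      rw [(linLeft hf).frow_dot] at hx
      have := hcon x hx
      rw [smul_dotProduct, smul_eq_mul] at this
      exact (mul_eq_zero.1 this).resolve_left hα0
    have hfull := full_of5 hf hM hn (hM' w hw) hy1 hy1'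
    have hw0 : w ≠ 0 := by
      rintro rfl
      apply hnot
      have : frow f' (0 : ι → F) = 0 := by
        have := frow_smul hf' 0 (0 : ι → F)
        simpa using this
      rw [this]; exact Submodule.zero_mem _
    exact specialLinear_le_of_full_centre hf hM (by omega) hw0 hfull
  · exfalso
    push Not at hex
    -- each isotropic w gives a constant
    have hc : ∀ w, f' w w = 0 → ∃ c : F, ∀ x, f' x w = c * f x w := by
      intro w hw
      obtain ⟨c, hc⟩ := Submodule.mem_span_singleton.1 (hex w hw)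
      refine ⟨c, fun x => ?_⟩
      rw [← (linLeft hf').frow_dot, ← hc, smul_dotProduct, (linLeft hf).frow_dot, smul_eq_mul]
    obtain ⟨e, -, hee, x0, -, hx0⟩ := exists_iso hf' (X := ⊤) (by
      rw [finrank_top, Module.finrank_fintype_fun_eq_card]; omega)
    have he0 : e ≠ 0 := by
      rintro rfl
      exact hx0 (zero_right hf' _)
    obtain ⟨c, hce⟩ := hc e hee
    -- S = set of w with f' x w = c f x w
    let S : Submodule F (ι → F) :=
      { carrier := {w | ∀ x, f' x w = c * f x w}
        add_mem' := fun {a b} ha hb => by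
          intro x
          rw [add_right hf', add_right hf, ha x, hb x, mul_add]
        zero_mem' := fun x => by rw [zero_right hf', zero_right hf, mul_zero]
        smul_mem' := fun d a ha => by
          intro x
          rw [smul_right hf', smul_right hf, ha x]; ring }
    have hS : S = ⊤ := by
      apply eq_top_of_isotropic hf' (by omega)
      intro w hw
      by_cases hdep : w ∈ Submodule.span F {e}
      · obtain ⟨d, rfl⟩ := Submodule.mem_span_singleton.1 hdep
        exact S.smul_mem d hce
      · -- find lam ≠ 0 with w + lam e isotropic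
        obtain ⟨lam, hlam0, hlam⟩ : ∃ lam : F, lam ≠ 0 ∧ f' (w + lam • e) (w + lam • e) = 0 := by
          by_cases hwe : f' w e = 0
          · refine ⟨1, one_ne_zero, ?_⟩
            rw [hf'.add_left, add_right hf', add_right hf', hf'.smul_left, hf'.smul_left, smul_right hf',
              smul_right hf', hw, hwe, eq_zero_symm hf' hwe, hee]; ring
          · have hew : f' e w ≠ 0 := ne_zero_symm hf' hwe
            refine ⟨α / f' e w, div_ne_zero hα0 hew, ?_⟩
            rw [hf'.add_left, add_right hf', add_right hf', hf'.smul_left, hf'.smul_left, smul_right hf',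
              smul_right hf', hw, hee, map_div₀, ← hf'.herm w e, div_mul_cancel₀ _ hew, div_mul_cancel₀ _ hwe]
            linear_combination hα
        obtain ⟨c2, hc2⟩ := hc w hw
        obtain ⟨c3, hc3⟩ := hc _ hlam
        -- (c3 - c2) f(x,w) + σ lam (c3 - c) f(x,e) = 0
        have key : σ (c3 - c2) • w + (σ (c3 - c) * lam) • e = 0 := by
          apply nd hf
          intro y
          have h1 := hc3 y
          rw [add_right hf', add_right hf, smul_right hf', smul_right hf, hc2, hce] at h1
          rw [add_right hf, smul_right hf, smul_right hf, map_mul, hf.involutive, hf.involutive]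
          linear_combination (-1) * h1
        have h20 : σ (c3 - c2) = 0 := by
          by_contra h
          apply hdep
          refine Submodule.mem_span_singleton.2 ⟨-((σ (c3 - c2))⁻¹ * (σ (c3 - c) * lam)), ?_⟩
          have h4 : (σ (c3 - c2))⁻¹ • (σ (c3 - c2) • w + (σ (c3 - c) * lam) • e) = 0 := by rw [key, smul_zero]
          rw [smul_add, smul_smul, smul_smul, inv_mul_cancel₀ h, one_smul] at h4
          rw [neg_smul]
          exact (eq_neg_of_add_eq_zero_left h4).symm
        have h30 : σ (c3 - c) = 0 := by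
          rw [h20, zero_smul, zero_add] at key
          rcases smul_eq_zero.1 key with h | h
          · exact (mul_eq_zero.1 h).resolve_right hlam0
          · exact absurd h he0
        have e1 : c3 = c2 := sub_eq_zero.1 ((map_eq_zero σ).1 h20)
        have e2 : c3 = c := sub_eq_zero.1 ((map_eq_zero σ).1 h30)
        intro x
        rw [hc2 x, ← e1, e2]
    have hall : ∀ x w, f' x w = c * f x w := by
      intro x w
      have : w ∈ S := by rw [hS]; trivial
      exact this x
    have hc0 : c ≠ 0 := by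
      rintro rfl
      apply hx0
      rw [hall, zero_mul]
    have hinv : g⁻¹ ∈ similarityGroup f := ⟨Units.mk0 c hc0, fun u v => hall u v⟩
    have := (similarityGroup f).inv_mem hinv
    rw [inv_inv] at this
    exact hgs this

theorem similarity_maximal5 (hf : IsUnitaryForm σ f) (hn : 5 ≤ Fintype.card ι) :
    IsMaximalIn (specialLinear ι F) (similarityGroup f ⊓ specialLinear ι F) := by
  refine ⟨lt_of_le_of_ne inf_le_right fun h => ?_, fun M hM1 hM2 => ?_⟩
  · apply not_specialLinear_le hf (by omega)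
    rw [← h]; exact inf_le_left
  · by_cases hM : M ≤ similarityGroup f
    · exact Or.inl (le_antisymm (le_inf hM hM2) hM1)
    · right
      apply le_antisymm hM2
      obtain ⟨g, hg, hgs⟩ := Set.not_subset.1 hM
      exact specialLinear_le5 hf (fun v a hv ha => HasT.mk (frow_dot_self hf hv a)
        (hM1 ⟨tGL_mem_similarity hf hv ha _, tGL_mem_specialLinear _ _ _⟩)) hn hg hgs

end H7.UnitFive
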